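import Groth.Agent.L09.HiggsStack.Morph
import Groth.Agent.L09.SecRep.Hom

/-!
# The scheme of twisted endomorphisms of a locally free module
-/

set_option autoImplicit false
set_option linter.style.haveILetI false
set_option backward.isDefEq.respectTransparency false
set_option backward.isDefEq.respectTransparency.types false

universe u

open CategoryTheory CategoryTheory.Limits AlgebraicGeometry

noncomputable section

namespace Groth.L09.HiggsRep

open Groth.L27.Assoc (Mo θ)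
open Groth.L09.ModStack (θi tr)
open Groth.L09.HiggsStack
open Groth.Agent.S17417 (existsUnique_lift pull pullHom)
open Groth.L09.SecRep (pullMor exists_rep_hom)

variable {X S : Scheme.{u}} {f : X ⟶ S} {F : X.Modules}

theorem compat_iff_eta {A B C : HiggsSt.Obj f F} (g₁ : A.toObj ⟶ B.toObj) (g₂ : B.toObj ⟶ C.toObj)
    (g₁₂ : A.toObj ⟶ C.toObj) (e : g₁ ≫ g₂ = g₁₂) (w : g₁.top ≫ g₂.top = g₁₂.top) :
    HiggsSt.Obj.Compat A B g₁ ↔
      (Scheme.Modules.pullback g₁.top).map (eta g₂) ≫ θ (CohB1.tensorMod C.E C.FT) g₁.top g₂.top g₁₂.top w =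
        θ C.E g₁.top g₂.top g₁₂.top w ≫ eta g₁₂ := by
  refine ⟨fun h => eta_natural h g₂ g₁₂ e w, fun h => ?_⟩
  subst e
  rw [compat_iff]
  refine adjn_injective g₁.top _ _ ?_
  haveI : IsIso (adjn g₂.top g₂.c) := inferInstanceAs (IsIso (tr g₂))
  rw [← cancel_epi ((Scheme.Modules.pullback g₁.top).map (adjn g₂.top g₂.c)), adjn_pre, ← Functor.map_comp_assoc,
    ← adjn_push, ← eta_Tof, Functor.map_comp_assoc,
    ← adjn_comp (Tof g₁) (Tof g₂) (g₁ ≫ g₂).top w (Tof (g₁ ≫ g₂)) (heq_of_eq (Tof_comp g₁ g₂)),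
    ← adjn_comp (g₁.c ≫ (Scheme.Modules.pushforward g₁.top).map A.φ) g₂.c (g₁ ≫ g₂).top w
      ((g₁ ≫ g₂).c ≫ (Scheme.Modules.pushforward (g₁ ≫ g₂).top).map A.φ) (heq_of_eq ?_),
    ← eta_Tof, ← Category.assoc, h, Category.assoc]
  rw [ModSt.Obj.comp_c, Functor.map_comp]
  simp only [Category.assoc]
  exact congrArg (fun z => g₂.c ≫ (Scheme.Modules.pushforward g₂.top).map g₁.c ≫ z)
    ((Scheme.Modules.pushforwardComp g₁.top g₂.top).hom.naturality A.φ).symm

/-- The twisted endomorphism with given pullback. -/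
def phiOf {z x : ModSt.Obj f} (g : z ⟶ x) (η : Mo x.E g.top ⟶ Mo (CohB1.tensorMod x.E (Mo F x.p)) g.top) :
    z.E ⟶ CohB1.tensorMod z.E (Mo F z.p) :=
  inv (tr g) ≫ η ≫ adjn g.top (Tof (A := mkObj z 0) (B := mkObj x 0) g)

theorem eta_phiOf {z x : ModSt.Obj f} (g : z ⟶ x)
    (η : Mo x.E g.top ⟶ Mo (CohB1.tensorMod x.E (Mo F x.p)) g.top) :
    eta (B := mkObj z (phiOf g η)) (C := mkObj x 0) g = η := by
  haveI := isIso_adjn_Tof (A := mkObj z (phiOf g η)) (B := mkObj x 0) g
  rw [← cancel_mono (adjn g.top (Tof (A := mkObj z (phiOf g η)) (B := mkObj x 0) g)), eta_Tof, adjn_push]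
  show tr g ≫ inv (tr g) ≫ η ≫ _ = _
  rw [IsIso.hom_inv_id_assoc]
  rfl

theorem xi_injective {T Y Z : Scheme.{u}} {M N : Z.Modules} {h : Y ⟶ Z} (l : T ⟶ Y) [IsIso l] (q : T ⟶ Z)
    (w : l ≫ h = q) : Function.Injective fun η : Mo M h ⟶ Mo N h => xi η l q w := by
  intro η η' e
  simp only [xi] at e
  have e1 : (Scheme.Modules.pullback l).map η = (Scheme.Modules.pullback l).map η' := by
    have e2 := (cancel_epi _).1 e
    exact (cancel_mono (θi N l h q w).hom).1 e2
  let ε : Scheme.Modules.pullback l ⋙ Scheme.Modules.pullback (inv l) ≅ 𝟭 _ :=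
    Scheme.Modules.pullbackComp (inv l) l ≪≫ Scheme.Modules.pullbackCongr (IsIso.inv_hom_id l) ≪≫
      Scheme.Modules.pullbackId Y
  have e3 := congrArg (fun m => ε.inv.app (Mo M h) ≫ (Scheme.Modules.pullback (inv l)).map m ≫ ε.hom.app (Mo N h)) e1
  exact ((NatIso.naturality_1 ε η).symm.trans e3).trans (NatIso.naturality_1 ε η')

section

variable {X S : Scheme.{u}} (q : X ⟶ S) {M N : X.Modules}

theorem pullMor_eq_xi {T T' : Over S} (g : T' ⟶ T) (φ : FGA.ET q M T ⟶ FGA.ET q N T) :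
    pullMor q M N g φ = xi (M := M) (N := N) (h := pullback.fst q T.hom) φ (PicF.XTmap q g) (pullback.fst q T'.hom)
      (FGA.XTmap_fst q g) := by
  have hM : FGA.ETiso q M g =
      θi M (PicF.XTmap q g) (pullback.fst q T.hom) (pullback.fst q T'.hom) (FGA.XTmap_fst q g) := Iso.ext rfl
  unfold Groth.L09.SecRep.pullMor xi
  rw [hM]
  rfl

end

/-- Twisted endomorphisms over base changes have a universal one. -/
theorem exists_terminal (x : ModSt.Obj f) [IsProper x.q] [LocallyOfFinitePresentation x.q]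
    (hE : FlatMod.IsFinLocFree x.E) [Coh.IsQCoh (CohB1.tensorMod x.E (Mo F x.p))]
    (hfp : CohB1.IsFP (CohB1.tensorMod x.E (Mo F x.p)))
    (hfl : FlatMod.IsFlatOver x.q (CohB1.tensorMod x.E (Mo F x.p))) :
    ∃ (T₀ : Over S) (b : T₀ ⟶ x.base) (φ₀ : (pull x b).E ⟶ CohB1.tensorMod (pull x b).E (Mo F (pull x b).p)),
      ∀ (H : HiggsSt.Obj f F) (γ : H.toObj ⟶ x),
        ∃! g : H.toObj ⟶ pull x b, g ≫ pullHom x b = γ ∧ HiggsSt.Obj.Compat H (mkObj (pull x b) φ₀) g := by
  obtain ⟨A, u, -, -, hu⟩ := exists_rep_hom x.q (E := x.E) (F := CohB1.tensorMod x.E (Mo F x.p)) hE hfp hfl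
  let T₀ : Over S := Over.mk (A.hom ≫ x.base.hom)
  let b : T₀ ⟶ x.base := Over.homMk A.hom rfl
  refine ⟨T₀, b, phiOf (pullHom x b) u, fun H γ => ?_⟩
  have sq : IsPullback γ.top H.q x.q γ.base.left := ModSt.Obj.Hom.isPullback_top γ
  let T : Over x.base.left := Over.mk γ.base.left
  let l : PicF.XT x.q T ⟶ H.XT := sq.isoPullback.inv
  haveI : IsIso l := inferInstanceAs (IsIso sq.isoPullback.inv)
  have hl₁ : l ≫ γ.top = pullback.fst x.q T.hom := sq.isoPullback_inv_fst
  have hl₂ : l ≫ H.q = pullback.snd x.q T.hom := sq.isoPullback_inv_snd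
  obtain ⟨g, hg, hguniq⟩ := hu T (xi (eta (B := H) (C := mkObj x 0) γ) l (pullback.fst x.q T.hom) hl₁)
  -- compatibility is the defining equation of the classifying morphism
  have key : ∀ (χ : H.toObj ⟶ pull x b), χ ≫ pullHom x b = γ → ∀ (g' : T ⟶ A), g'.left = χ.base.left →
      (HiggsSt.Obj.Compat H (mkObj (pull x b) (phiOf (pullHom x b) u)) χ ↔
        pullMor x.q x.E (CohB1.tensorMod x.E (Mo F x.p)) g' u =
          xi (eta (B := H) (C := mkObj x 0) γ) l (pullback.fst x.q T.hom) hl₁) := by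
    intro χ hχ g' hg'
    have w : χ.top ≫ (pullHom x b).top = γ.top := congrArg ModSt.Obj.Hom.top hχ
    have hχq : χ.top ≫ pullback.snd x.q A.hom = H.q ≫ χ.base.left := χ.w_q
    have hlt : l ≫ χ.top = PicF.XTmap x.q g' := by
      refine pullback.hom_ext ?_ ?_
      · refine Eq.trans ?_ (FGA.XTmap_fst x.q g').symm
        exact (Category.assoc _ _ _).trans ((congrArg (fun m => l ≫ m) w).trans hl₁)
      · refine (Category.assoc _ _ _).trans ((congrArg (fun m => l ≫ m) hχq).trans ?_)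
        refine (Category.assoc _ _ _).symm.trans ((congrArg (fun m => m ≫ χ.base.left) hl₂).trans ?_)
        exact ((congrArg (fun m => pullback.snd x.q T.hom ≫ m) hg'.symm)).trans
          (pullback.lift_snd _ _ _).symm
    rw [compat_iff_eta (A := H) (B := mkObj (pull x b) (phiOf (pullHom x b) u)) (C := mkObj x 0) χ (pullHom x b) γ
      hχ w, eta_phiOf, pullMor_eq_xi]
    have e : xi (M := x.E) (N := CohB1.tensorMod x.E (Mo F x.p)) u χ.top γ.top w =
        (θi x.E χ.top (pullHom x b).top γ.top w).inv ≫ (Scheme.Modules.pullback χ.top).map u ≫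
          θ (CohB1.tensorMod x.E (Mo F x.p)) χ.top (pullHom x b).top γ.top w := rfl
    have h' : (Scheme.Modules.pullback χ.top).map u ≫
        θ (CohB1.tensorMod x.E (Mo F x.p)) χ.top (pullHom x b).top γ.top w =
        θ x.E χ.top (pullHom x b).top γ.top w ≫
          xi (M := x.E) (N := CohB1.tensorMod x.E (Mo F x.p)) u χ.top γ.top w := by
      rw [e]
      exact (Iso.hom_inv_id_assoc (θi x.E χ.top (pullHom x b).top γ.top w) _).symm
    rw [xi_comp u (xi u χ.top γ.top w) χ.top w h' l (PicF.XTmap x.q g') (pullback.fst x.q T.hom) hlt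
      (FGA.XTmap_fst x.q g') hl₁]
    refine Iff.trans ?_ (xi_injective l (pullback.fst x.q T.hom) hl₁).eq_iff.symm
    rw [e]
    exact (Iso.inv_comp_eq (θi x.E χ.top (pullHom x b).top γ.top w)).symm
  have hgw : g.left ≫ A.hom = γ.base.left := Over.w g
  let bb : H.base ⟶ T₀ := Over.homMk g.left (by
    show g.left ≫ A.hom ≫ x.base.hom = H.base.hom
    rw [← Category.assoc, hgw]
    exact Over.w γ.base)
  obtain ⟨χ, ⟨hχb, hχ⟩, hχu⟩ := existsUnique_lift (pullHom x b) γ bb (Over.OverMorphism.ext hgw)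
  refine ⟨χ, ⟨hχ, (key χ hχ g (congrArg CommaMorphism.left hχb).symm).2 hg⟩, ?_⟩
  rintro χ' ⟨hχ', hc⟩
  let g' : T ⟶ A := Over.homMk χ'.base.left (congrArg (fun m => m.base.left) hχ')
  have e : g' = g := hguniq g' ((key χ' hχ' g' rfl).1 hc)
  exact hχu χ' ⟨Over.OverMorphism.ext (congrArg CommaMorphism.left e : g'.left = g.left), hχ'⟩

end Groth.L09.HiggsRep
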