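import Groth.Agent.L09.HiggsStack.Morph
import Groth.Agent.L29.LocFree
import Groth.Agent.L21.RR.Coh
import Groth.Agent.L17.FlatPair.Flat

/-!
# Vector bundles and Higgs bundles of given rank and degree are fibred in groupoids
-/

set_option autoImplicit false
set_option linter.style.haveILetI false
set_option backward.isDefEq.respectTransparency false
set_option backward.isDefEq.respectTransparency.types false

universe u

open CategoryTheory CategoryTheory.Limits AlgebraicGeometry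

noncomputable section

namespace Groth.L09.HiggsRep

open Groth.L09.HiggsStack (overObj overHom compat_cancel)
open Groth.Agent.S17417 (existsUnique_lift pull pullHom)

variable {X S : Scheme.{u}} {f : X ⟶ S} {F : X.Modules} {P : ModSt.Obj f → Prop}

theorem isFibGrpd_fullSub (hP : ∀ (x : ModSt.Obj f) {T : Over S} (h : T ⟶ x.base), P x → P (pull x h)) :
    FibCat.IsFibGrpd (AlgSt.fullSub (ModSt.Fam f) P).p where
  exists_lift {x V} h := by
    refine ⟨⟨pull x.obj h, hP x.obj h x.property⟩, ObjectProperty.homMk (pullHom x.obj h), ?_⟩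
    exact Functor.IsHomLift.map (p := (AlgSt.fullSub (ModSt.Fam f) P).p)
      (ObjectProperty.homMk (pullHom x.obj h) :
        (⟨pull x.obj h, hP x.obj h x.property⟩ : (AlgSt.fullSub (ModSt.Fam f) P).obj) ⟶ x)
  isStronglyCartesian {y x} φ :=
    { universal_property' := fun {z} g φ' hφ' => by
        have hg : g ≫ φ.hom.base = φ'.hom.base :=
          IsHomLift.eq_of_isHomLift (AlgSt.fullSub (ModSt.Fam f) P).p (g ≫ (AlgSt.fullSub (ModSt.Fam f) P).p.map φ) φ'
        obtain ⟨χ, ⟨hb, hc⟩, huniq⟩ := existsUnique_lift φ.hom φ'.hom g hg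
        subst hb
        let χ' : z ⟶ y := ObjectProperty.homMk χ
        refine ⟨χ', ⟨Functor.IsHomLift.map (p := (AlgSt.fullSub (ModSt.Fam f) P).p) χ',
          InducedCategory.hom_ext hc⟩, ?_⟩
        rintro χ'' ⟨hχ'', hc''⟩
        exact InducedCategory.hom_ext (huniq χ''.hom
          ⟨(IsHomLift.eq_of_isHomLift (AlgSt.fullSub (ModSt.Fam f) P).p χ.base χ'').symm,
            congrArg (fun ψ => ψ.hom) hc''⟩) }

theorem isFibGrpd_fullSub_pairs (hP : ∀ (x : ModSt.Obj f) {T : Over S} (h : T ⟶ x.base), P x → P (pull x h)) :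
    FibCat.IsFibGrpd (AlgSt.fullSub (HiggsSt.Fam f F) (fun A => P A.toObj)).p where
  exists_lift {x V} h := by
    let z : ModSt.Obj f := pull x.obj.toObj h
    let o : (AlgSt.fullSub (HiggsSt.Fam f F) (fun A => P A.toObj)).obj :=
      ⟨overObj (pullHom x.obj.toObj h), hP x.obj.toObj h x.property⟩
    refine ⟨o, ObjectProperty.homMk (overHom (pullHom x.obj.toObj h)), ?_⟩
    exact Functor.IsHomLift.map (p := (AlgSt.fullSub (HiggsSt.Fam f F) (fun A => P A.toObj)).p)
      (ObjectProperty.homMk (overHom (pullHom x.obj.toObj h)) : o ⟶ x)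
  isStronglyCartesian {y x} φ :=
    { universal_property' := fun {z} g φ' hφ' => by
        have hg : g ≫ φ.hom.hom.base = φ'.hom.hom.base :=
          IsHomLift.eq_of_isHomLift (AlgSt.fullSub (HiggsSt.Fam f F) (fun A => P A.toObj)).p
            (g ≫ (AlgSt.fullSub (HiggsSt.Fam f F) (fun A => P A.toObj)).p.map φ) φ'
        obtain ⟨χ, ⟨hb, hc⟩, huniq⟩ := existsUnique_lift φ.hom.hom φ'.hom.hom g hg
        subst hb
        let χ' : z ⟶ y := ObjectProperty.homMk ⟨χ, compat_cancel φ.hom.compat (by rw [hc]; exact φ'.hom.compat)⟩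
        refine ⟨χ', ⟨Functor.IsHomLift.map (p := (AlgSt.fullSub (HiggsSt.Fam f F) (fun A => P A.toObj)).p) χ',
          InducedCategory.hom_ext (HiggsSt.Obj.hom_ext hc)⟩, ?_⟩
        rintro χ'' ⟨hχ'', hc''⟩
        exact InducedCategory.hom_ext (HiggsSt.Obj.hom_ext (huniq χ''.hom.hom
          ⟨(IsHomLift.eq_of_isHomLift (AlgSt.fullSub (HiggsSt.Fam f F) (fun A => P A.toObj)).p χ.base χ'').symm,
            congrArg (fun ψ => ψ.hom.hom) hc''⟩)) }

/-- Rank and fibre degree survive base change. -/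
theorem fibRkDeg_pull (r : ℕ) (d : ℤ) (x : ModSt.Obj f) {T : Over S} (h : T ⟶ x.base)
    (hx : ModSt.IsFibRkObj r x ∧ ModSt.FibDeg r d x) :
    ModSt.IsFibRkObj r (pull x h) ∧ ModSt.FibDeg r d (pull x h) := by
  refine ⟨⟨Groth.L17.FlatPair.isFlatOver_pullback (IsPullback.of_hasPullback x.q h.left) hx.1.1,
    fun z => by
      obtain ⟨V, hV, ⟨j⟩⟩ := hx.1.2 ((pullback.fst x.q h.left) z)
      exact ⟨_, hV, Groth.L29.LocFree.restrict_pullback _ j⟩⟩, ?_⟩
  intro Ω _ _ t Xt i qt hsq
  letI : Xt.Over (Spec (CommRingCat.of Ω)) := ⟨qt⟩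
  refine Eq.trans (Groth.L21.RR.deg_congr Ω
    ((Scheme.Modules.pullbackComp i (pullback.fst x.q h.left)).app x.E) r) ?_
  exact hx.2 Ω (t ≫ h.left) Xt _ qt (hsq.paste_horiz (IsPullback.of_hasPullback x.q h.left))

theorem isFibGrpd_fibRkDeg (r : ℕ) (d : ℤ) : FibCat.IsFibGrpd (ModSt.FibRkDeg f r d).p :=
  isFibGrpd_fullSub (fun x _ h => fibRkDeg_pull r d x h)

theorem isFibGrpd_higgs (r : ℕ) (d : ℤ) : FibCat.IsFibGrpd (HiggsSt.Higgs f F r d).p :=
  isFibGrpd_fullSub_pairs (fun x _ h => fibRkDeg_pull r d x h)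

end Groth.L09.HiggsRep
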