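import Groth.Agent.L09.HiggsRep.FibGrpd
import Groth.Agent.L09.HiggsRep.Classify
import Groth.Agent.L09.FibRep1Terminal
import Groth.Agent.L18.LocFreeFP
import Groth.Agent.L29.DCoh.TensorPerfect
import Groth.Agent.L29.DCoh.RelTor
import Groth.Agent.L29.DCoh.Flat
import Groth.Agent.L21.Duality.Omega
import Groth.Agent.L20.DescLocus.Main
import Groth.Agent.L29.DCoh.PCQCoh

/-!
# Forgetting the Higgs field is representable
-/

set_option autoImplicit false
set_option linter.style.haveILetI false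
set_option backward.isDefEq.respectTransparency false
set_option backward.isDefEq.respectTransparency.types false

universe u

open CategoryTheory CategoryTheory.Limits AlgebraicGeometry

noncomputable section

namespace Groth.L09.HiggsRep

open Groth.L27.Assoc (Mo)
open Groth.L09.HiggsStack (mkObj)
open Groth.Agent.S17417 (pull pullHom)

variable {X S : Scheme.{u}} {f : X ⟶ S}

/-- Differentials of a smooth morphism are finite locally free, the source not assumed integral. -/
theorem isFinLocFree_omega_smooth (p : X ⟶ S) [QuasiSeparated p] [Smooth p] : FlatMod.IsFinLocFree (Omega.sheaf p) := by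
  intro x
  obtain ⟨V, hV, U, hU, hxU, e, hf⟩ := Smooth.exists_isStandardSmooth p x
  letI : Algebra Γ(S, V) Γ(X, U) := (p.appLE V U e).hom.toAlgebra
  haveI : Algebra.IsStandardSmooth Γ(S, V) Γ(X, U) := hf
  haveI : Nontrivial Γ(X, U) := (X.presheaf.germ U x hxU).hom.domain_nontrivial
  haveI : Module.Finite Γ(X, U) Ω[Γ(X, U)⁄Γ(S, V)] := inferInstance
  haveI : Module.Free Γ(X, U) Ω[Γ(X, U)⁄Γ(S, V)] := inferInstance
  obtain ⟨i, -⟩ := Groth.L19.OmegaSh.exists_chart_affine
    (Groth.L19.OmegaSh.isUniversal_dOmega (f := p)) hU hV e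
  let b := Module.finBasis Γ(X, U) Ω[Γ(X, U)⁄Γ(S, V)]
  let j : (Omega.sheaf p).restrict hU.fromSpec ≅ FlatMod.freeMod (Spec Γ(X, U)) _ :=
    i ≪≫ (tilde.functor Γ(X, U)).mapIso (b.reindex Equiv.ulift.symm).repr.toModuleIso ≪≫
      Groth.L19.PullChart.freeTildeIso Γ(X, U) _
  exact ⟨hU.fromSpec.opensRange, _, by rw [hU.opensRange_fromSpec]; exact hxU,
    Groth.L19.PullChart.exists_free_of_chart _ _ j⟩

theorem isRepresentable1_forget [IsProper f] [Smooth f] {K : X.Modules} (hK : FlatMod.IsFinLocFree K) (r : ℕ) (d : ℤ) :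
    FibCat.IsRepresentable1 (HiggsSt.Higgs.forget f K r d) := by
  refine Groth.L09.Fib.isRepresentable1_of_terminal_over _ (isFibGrpd_higgs r d) (isFibGrpd_fibRkDeg r d) fun x₀ => ?_
  haveI : IsProper x₀.obj.q := MorphismProperty.of_isPullback x₀.obj.isPullback inferInstance
  haveI : Smooth x₀.obj.q := MorphismProperty.of_isPullback x₀.obj.isPullback inferInstance
  have hE : FlatMod.IsFinLocFree x₀.obj.E := fun z => by
    obtain ⟨U, hU, i⟩ := x₀.property.1.2 z
    exact ⟨U, r, hU, i⟩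
  have hT : FlatMod.IsFinLocFree (CohB1.tensorMod x₀.obj.E (Mo K x₀.obj.p)) :=
    Groth.L29.DC.isFinLocFree_tensor hE (Groth.L20.DescLocus.isFinLocFree_pullback x₀.obj.p hK)
  haveI : Coh.IsQCoh (CohB1.tensorMod x₀.obj.E (Mo K x₀.obj.p)) := Groth.L29.DC.PCQCoh.isQCoh_of_isFinLocFree hT
  obtain ⟨T₀, b, φ₀, h⟩ := exists_terminal (F := K) x₀.obj hE (Groth.L18.LFP.isFP_of_isFinLocFree _ hT)
    (Groth.L29.DC.RelTor.isFlatOver_of_isFlat x₀.obj.q (Groth.L29.DC.isFlat_of_isFinLocFree hT))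
  let H₀ : (HiggsSt.Higgs f K r d).obj := ⟨mkObj (pull x₀.obj b) φ₀, fibRkDeg_pull r d x₀.obj b x₀.property⟩
  refine ⟨H₀, ObjectProperty.homMk (pullHom x₀.obj b), fun H γ => ?_⟩
  obtain ⟨g, ⟨hg, hc⟩, hu⟩ := h H.obj γ.hom
  refine ⟨ObjectProperty.homMk ⟨g, hc⟩, InducedCategory.hom_ext hg, fun n hn => ?_⟩
  exact InducedCategory.hom_ext (HiggsSt.Obj.hom_ext (hu n.hom.hom ⟨congrArg InducedCategory.Hom.hom hn, n.hom.compat⟩))

end Groth.L09.HiggsRep
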